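import Mathlib
import Cfsg.Agent.H2.FPFSubgroup
import Cfsg.Agent.H1.ThompsonComplement
import Cfsg.Agent.H1.FPF

/-!
Groups in which every element has prime-power order: the basic consequences of the fact that
elements of coprime orders do not commute.
-/

set_option autoImplicit false
set_option linter.style.haveILetI false
set_option linter.unusedSectionVars false

namespace H59.CIT

open Subgroup

variable {G : Type*} [Group G] [Finite G]

/-- Every element has prime-power order. -/
def PPO (G : Type*) [Group G] : Prop := ∀ g : G, g ≠ 1 → IsPrimePow (orderOf g)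

omit [Finite G] in
theorem PPO.of_injective {H : Type*} [Group H] {f : H →* G} (h : PPO G) (hf : Function.Injective f) :
    PPO H := fun x hx => by
  rw [← orderOf_injective f hf x]
  exact h _ fun h1 => hx (hf (by rw [h1, map_one]))

omit [Finite G] in
theorem PPO.subgroup (h : PPO G) (H : Subgroup G) : PPO H :=
  h.of_injective H.subtype_injective

theorem PPO.of_surjective {H : Type*} [Group H] {f : G →* H} (h : PPO G) (hf : Function.Surjective f) :
    PPO H := fun x hx => by
  obtain ⟨g, rfl⟩ := hf x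
  exact (h g fun h1 => hx (by rw [h1, map_one])).dvd (orderOf_map_dvd f g)
    (orderOf_eq_one_iff.not.2 hx)

omit [Finite G] in
theorem PPO.of_equiv {H : Type*} [Group H] (h : PPO G) (e : G ≃* H) : PPO H :=
  h.of_injective (f := e.symm.toMonoidHom) e.symm.injective

theorem PPO.orderOf_eq_pow (h : PPO G) {x : G} {p : ℕ} (hp : p.Prime) (hd : p ∣ orderOf x) :
    ∃ j, 1 ≤ j ∧ orderOf x = p ^ j := by
  have hx : x ≠ 1 := fun h1 => hp.not_dvd_one (by rwa [h1, orderOf_one] at hd)
  obtain ⟨r, k, hr, hk, he⟩ := (isPrimePow_nat_iff _).1 (h x hx)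
  rw [← he] at hd
  obtain rfl := (Nat.prime_dvd_prime_iff_eq hp hr).1 (hp.dvd_of_dvd_pow hd)
  exact ⟨k, hk, he.symm⟩

/-- An element commuting with an element of prime order `p` has `p`-power order. -/
theorem PPO.orderOf_of_commute (h : PPO G) {x z : G} {p : ℕ} (hp : p.Prime) (hz : orderOf z = p)
    (hc : Commute x z) : ∃ j, orderOf x = p ^ j := by
  by_cases hd : p ∣ orderOf x
  · obtain ⟨j, -, hj⟩ := h.orderOf_eq_pow hp hd
    exact ⟨j, hj⟩
  · have ho : orderOf (x * z) = orderOf x * p := by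
      rw [hc.orderOf_mul_eq_mul_orderOf_of_coprime, hz]
      rw [hz]
      exact Nat.Coprime.symm (hp.coprime_iff_not_dvd.2 hd)
    obtain ⟨j, hj1, hj⟩ := h.orderOf_eq_pow hp (x := x * z) (ho ▸ dvd_mul_left p _)
    refine ⟨j - 1, Nat.eq_of_mul_eq_mul_right hp.pos ?_⟩
    rw [← ho, hj, ← pow_succ, Nat.sub_add_cancel hj1]

/-- Two commuting elements of different prime orders do not exist. -/
theorem PPO.not_commute (h : PPO G) {x z : G} {p q : ℕ} (hp : p.Prime) (hq : q.Prime) (hne : p ≠ q)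
    (hx : orderOf x = q) (hz : orderOf z = p) : ¬ Commute x z := fun hc => by
  obtain ⟨j, hj⟩ := h.orderOf_of_commute hp hz hc
  rcases Nat.eq_zero_or_pos j with rfl | hj0
  · exact hq.ne_one (by rw [← hx, hj, pow_zero])
  · exact hne ((Nat.prime_dvd_prime_iff_eq hp hq).1 (hx ▸ hj ▸ dvd_pow_self p hj0.ne'))

/-- A `q`-element centralising a nontrivial `p`-element, `p ≠ q`, is trivial. -/
theorem PPO.eq_one_of_commute (h : PPO G) {x z : G} {p q : ℕ} (hp : p.Prime) (hq : q.Prime)
    (hne : p ≠ q) {i j : ℕ} (hx : orderOf x = q ^ i) (hz : orderOf z = p ^ j) (hz1 : z ≠ 1)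
    (hc : Commute x z) : x = 1 := by
  have hj : j ≠ 0 := by
    rintro rfl
    exact hz1 (orderOf_eq_one_iff.1 (by rw [hz, pow_zero]))
  have hzp : orderOf (z ^ p ^ (j - 1)) = p := by
    rw [orderOf_pow' _ (pow_ne_zero _ hp.ne_zero), hz,
      Nat.gcd_eq_right (Nat.pow_dvd_pow p (Nat.sub_le j 1)), Nat.pow_div (Nat.sub_le j 1) hp.pos,
      show j - (j - 1) = 1 by omega, pow_one]
  obtain ⟨k, hk⟩ := h.orderOf_of_commute hp hzp (hc.pow_right _)
  have h1 : Nat.Coprime (p ^ k) (q ^ i) := Nat.Coprime.pow _ _ ((Nat.coprime_primes hp hq).2 hne)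
  exact orderOf_eq_one_iff.1 (Nat.eq_one_of_dvd_coprimes h1 (hk ▸ dvd_refl _) (hx ▸ dvd_refl _))

/-- The order of a `q`-group normalising a `p`-group `P` divides `|P| - 1`. -/
theorem PPO.card_dvd_sub_one (h : PPO G) {p q : ℕ} [hp : Fact p.Prime] [hq : Fact q.Prime]
    (hne : p ≠ q) (T P : Subgroup G) (hT : IsPGroup q T) (hP : IsPGroup p P)
    (hTP : T ≤ normalizer (P : Set G)) :
    Nat.card T ∣ Nat.card P - 1 := by
  classical
  let act : MulAction T P :=
    { smul := fun t v => ⟨(t : G) * v * (t : G)⁻¹, (mem_normalizer_iff.1 (hTP t.2) v).1 v.2⟩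
      one_smul := fun v => Subtype.ext
        (show ((1 : T) : G) * (v : G) * ((1 : T) : G)⁻¹ = v by simp)
      mul_smul := fun a b v => Subtype.ext
        (show ((a * b : T) : G) * (v : G) * ((a * b : T) : G)⁻¹
          = (a : G) * ((b : G) * v * (b : G)⁻¹) * (a : G)⁻¹ by simp [mul_assoc]) }
  let s : SubMulAction T P :=
    { carrier := {v | v ≠ 1}
      smul_mem' := fun t v hv h1 => hv (Subtype.ext (by
        have h2 : (t : G) * v * (t : G)⁻¹ = 1 := congrArg Subtype.val h1
        simpa using h2)) }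
  have hstab : ∀ v : s, MulAction.stabilizer T v = ⊥ := by
    rintro ⟨v, hv⟩
    rw [eq_bot_iff]
    intro t ht
    have h2 : (t : G) * v * (t : G)⁻¹ = v :=
      congrArg (fun x : s => ((x : P) : G)) (MulAction.mem_stabilizer_iff.1 ht)
    obtain ⟨i, hi⟩ := IsPGroup.iff_orderOf.1 hT t
    obtain ⟨j, hj⟩ := IsPGroup.iff_orderOf.1 hP v
    rw [← orderOf_coe] at hi hj
    exact mem_bot.2 (Subtype.ext (h.eq_one_of_commute hp.out hq.out hne hi hj
      (fun h1 => hv (Subtype.ext h1)) (mul_inv_eq_iff_eq_mul.1 h2)))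
  have hcard : Nat.card s = Nat.card P - 1 := by
    have : Nat.card s = ({(1 : P)}ᶜ : Set P).ncard := Nat.card_coe_set_eq _
    rw [this, Set.ncard_compl, Set.ncard_singleton]
  have := Fintype.ofFinite (MulAction.orbitRel.Quotient T s)
  rw [← hcard, Nat.card_congr (MulAction.selfEquivSigmaOrbits T s), Nat.card_sigma]
  refine Finset.dvd_sum fun ω _ => ?_
  rw [Nat.card_congr (MulAction.orbitEquivQuotientStabilizer T _), hstab]
  exact dvd_of_eq Subgroup.index_bot.symm

/-- An abelian subgroup normalising a nontrivial normal abelian `p`-subgroup and of order prime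
to `p` is cyclic. -/
theorem PPO.isCyclic_of_coprime (h : PPO G) {p : ℕ} [hp : Fact p.Prime] (A V : Subgroup G)
    (hV : IsPGroup p V) (hVn : V ≠ ⊥) [IsMulCommutative V] (hAV : A ≤ normalizer (V : Set G))
    (hA : IsMulCommutative A) (hpA : ¬ p ∣ Nat.card A) : IsCyclic A := by
  refine H2.isCyclic_of_fpf_subgroup A V hAV hVn ?_ (Or.inl hA)
  intro a ha ha1
  rw [eq_bot_iff]
  rintro v ⟨hvV, hv⟩
  by_contra hv1
  obtain ⟨j, hj⟩ := IsPGroup.iff_orderOf.1 hV ⟨v, hvV⟩
  rw [orderOf_mk] at hj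
  have hv1' : v ≠ 1 := fun h1 => hv1 (mem_bot.2 h1)
  obtain ⟨r, k, hr, hk, he⟩ := (isPrimePow_nat_iff _).1 (h a ha1)
  have hrp : p ≠ r := by
    rintro rfl
    exact hpA ((dvd_pow_self p hk.ne').trans (he ▸ A.orderOf_dvd_natCard ha))
  exact ha1 (h.eq_one_of_commute hp.out hr hrp he.symm hj hv1'
    (mem_centralizer_singleton_iff.1 hv).symm)

/-- The prime divisors of the order all divide the order of a nonabelian simple normal subgroup
with trivial centraliser. -/
theorem PPO.dvd_card_of_normal (h : PPO G) (M : Subgroup G) [hMn : M.Normal] [IsSimpleGroup M]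
    (hM : ¬ IsMulCommutative M) {q : ℕ} (hq : q.Prime) (hd : q ∣ Nat.card G) : q ∣ Nat.card M := by
  by_contra hqM
  haveI := Fact.mk hq
  obtain ⟨y, hy⟩ := exists_prime_orderOf_dvd_card' q hd
  set φ : MulAut M := MulAut.conjNormal y with hφ
  have hfix : ∀ x : M, φ x = x → x = 1 := by
    intro x hx
    by_contra hx1
    have hc : y * x * y⁻¹ = x := congrArg Subtype.val hx
    obtain ⟨j, hj⟩ := h.orderOf_of_commute hq hy
      (show Commute (x : G) y from (mul_inv_eq_iff_eq_mul.1 hc).symm)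
    rw [orderOf_coe] at hj
    rcases Nat.eq_zero_or_pos j with rfl | hj0
    · exact hx1 (orderOf_eq_one_iff.1 (by rw [hj, pow_zero]))
    · exact hqM ((dvd_pow_self q hj0.ne').trans (hj ▸ orderOf_dvd_natCard x))
  have hφq : φ ^ q = 1 := by rw [hφ, ← map_pow, ← hy, pow_orderOf_eq_one, map_one]
  haveI : Group.IsNilpotent M :=
    H1.nilpotent_of_fpf (fun G _ _ r _ hr P hN hC => H1.thompson_normal_p_complement hr P hN hC)
      φ hq hφq hfix
  haveI : Group.IsSolvable M := inferInstance
  exact hM ⟨⟨fun a b => (IsSimpleGroup.comm_iff_isSolvable.2 inferInstance) a b⟩⟩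

/-- An involution inverts every normal `p`-subgroup, `p` odd. -/
theorem PPO.invert_of_involution (h : PPO G) {p : ℕ} [hp : Fact p.Prime] (hp2 : p ≠ 2)
    (V : Subgroup G) [hVn : V.Normal] (hV : IsPGroup p V) {t : G} (ht : orderOf t = 2) :
    ∀ v ∈ V, t * v * t⁻¹ = v⁻¹ := by
  classical
  have hfix : ∀ v ∈ V, t * v * t⁻¹ = v → v = 1 := by
    intro v hv hc
    by_contra hv1
    obtain ⟨j, hj⟩ := IsPGroup.iff_orderOf.1 hV ⟨v, hv⟩
    rw [orderOf_mk] at hj
    have ht1 : t = 1 := h.eq_one_of_commute hp.out Nat.prime_two hp2 (i := 1)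
      (by rw [ht, pow_one]) hj hv1 (mul_inv_eq_iff_eq_mul.1 hc)
    rw [ht1, orderOf_one] at ht
    omega
  set φ : V →* V := (MulAut.conjNormal t : MulAut V).toMonoidHom with hφ
  have hval : ∀ v : V, ((φ v : V) : G) = t * v * t⁻¹ := fun v => rfl
  have h1 : MonoidHom.FixedPointFree φ := fun v hv =>
    Subtype.ext (hfix v v.2 (by rw [← hval, hv]))
  have h2 : Function.Involutive φ := fun v => Subtype.ext (by
    have htt : t * t = 1 := by rw [← sq, ← ht, pow_orderOf_eq_one]
    have hti : t⁻¹ = t := inv_eq_of_mul_eq_one_right htt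
    rw [hval, hval, hti]
    simp [mul_assoc, htt]
    rw [← mul_assoc, htt, one_mul])
  intro v hv
  have := congrFun (MonoidHom.FixedPointFree.coe_eq_inv_of_involutive h1 h2) ⟨v, hv⟩
  exact congrArg Subtype.val this

end H59.CIT
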