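import Mathlib

/-!
Noncyclic abelian subgroups of prime-power order generated by two commuting elements.
-/

set_option autoImplicit false
set_option linter.style.haveILetI false
set_option linter.unusedSectionVars false

namespace H59.CIT

open Subgroup

variable {G : Type*} [Group G] [Finite G]

/-- The group has a noncyclic abelian `s`-subgroup. -/
def HasNoncyclicAbelian (G : Type*) [Group G] (s : ℕ) : Prop :=
  ∃ A : Subgroup G, IsPGroup s A ∧ IsMulCommutative A ∧ ¬ IsCyclic A

theorem HasNoncyclicAbelian.map {H : Type*} [Group H] {s : ℕ} (h : HasNoncyclicAbelian H s)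
    {f : H →* G} (hf : Function.Injective f) : HasNoncyclicAbelian G s := by
  obtain ⟨A, hp, hc, hn⟩ := h
  have e := A.equivMapOfInjective f hf
  refine ⟨A.map f, hp.map f, ⟨⟨fun a b => ?_⟩⟩, fun hcy => hn ?_⟩
  · obtain ⟨a, rfl⟩ := e.surjective a
    obtain ⟨b, rfl⟩ := e.surjective b
    rw [← map_mul, ← map_mul, hc.is_comm.comm a b]
  · exact isCyclic_of_surjective e.symm e.symm.surjective

/-- Two commuting elements of prime order, neither in the group generated by the other, generate a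
noncyclic abelian group of order `s²`. -/
theorem exists_sq_subgroup {s : ℕ} (hs : s.Prime) {x y : G} (hx : orderOf x = s) (hy : orderOf y = s)
    (hc : Commute x y) (hn : y ∉ zpowers x) :
    ∃ P : Subgroup G, Nat.card P = s ^ 2 ∧ IsMulCommutative P ∧ ¬ IsCyclic P ∧
      x ∈ P ∧ y ∈ P ∧ ∀ z ∈ P, ∃ i j : ℕ, i < s ∧ j < s ∧ z = x ^ i * y ^ j := by
  haveI := Fact.mk hs
  have hcomm : ∀ (a : zpowers x) (b : zpowers y), Commute ((zpowers x).subtype a)
      ((zpowers y).subtype b) := by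
    rintro ⟨a, i, rfl⟩ ⟨b, j, rfl⟩
    exact hc.zpow_zpow i j
  set f := MonoidHom.noncommCoprod (zpowers x).subtype (zpowers y).subtype hcomm with hf
  have hinj : Function.Injective f := by
    rw [injective_iff_map_eq_one]
    rintro ⟨⟨a, ha⟩, ⟨b, hb⟩⟩ h
    have hab : a * b = 1 := h
    have hb1 : b = 1 := by
      by_contra hb1
      apply hn
      have hbx : b ∈ zpowers x := by
        rw [← inv_eq_of_mul_eq_one_right hab]
        exact inv_mem ha
      have : zpowers b = zpowers y := by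
        refine eq_of_le_of_card_ge (zpowers_le.2 hb) ?_
        rw [Nat.card_zpowers, Nat.card_zpowers, hy]
        have hd : orderOf b ∣ s := hy ▸ orderOf_dvd_of_mem_zpowers hb
        rcases (Nat.dvd_prime hs).1 hd with h1 | h1
        · exact absurd (orderOf_eq_one_iff.1 h1) hb1
        · omega
      exact (zpowers_le.2 hbx) (this.symm ▸ mem_zpowers y)
    rw [hb1, mul_one] at hab
    exact Prod.ext (Subtype.ext hab) (Subtype.ext hb1)
  have hcard : Nat.card f.range = s ^ 2 := by
    rw [← Nat.card_congr (MonoidHom.ofInjective hinj).toEquiv, Nat.card_prod, Nat.card_zpowers,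
      Nat.card_zpowers, hx, hy, sq]
  have helts : ∀ z ∈ f.range, ∃ i j : ℕ, i < s ∧ j < s ∧ z = x ^ i * y ^ j := by
    rintro _ ⟨⟨⟨a, ha⟩, ⟨b, hb⟩⟩, rfl⟩
    rw [← IsOfFinOrder.mem_powers_iff_mem_zpowers (isOfFinOrder_of_finite _)] at ha hb
    obtain ⟨i, rfl⟩ := ha
    obtain ⟨j, rfl⟩ := hb
    exact ⟨i % s, j % s, Nat.mod_lt _ hs.pos, Nat.mod_lt _ hs.pos,
      congrArg₂ (· * ·) (hx ▸ (pow_mod_orderOf x i).symm) (hy ▸ (pow_mod_orderOf y j).symm)⟩
  have hab : IsMulCommutative f.range := by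
    refine ⟨⟨fun a b => Subtype.ext ?_⟩⟩
    obtain ⟨i, j, -, -, ha⟩ := helts a a.2
    obtain ⟨k, l, -, -, hb⟩ := helts b b.2
    rw [coe_mul, coe_mul, ha, hb]
    have h1 : Commute (x ^ i) (x ^ k * y ^ l) :=
      ((Commute.refl x).pow_pow i k).mul_right (hc.pow_pow i l)
    have h2 : Commute (y ^ j) (x ^ k * y ^ l) :=
      (hc.symm.pow_pow j k).mul_right ((Commute.refl y).pow_pow j l)
    exact (h1.mul_left h2).eq
  refine ⟨f.range, hcard, hab, ?_, ⟨(⟨x, mem_zpowers x⟩, 1), by simp [hf]⟩,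
    ⟨(1, ⟨y, mem_zpowers y⟩), by simp [hf]⟩, helts⟩
  intro hcy
  obtain ⟨g, hg⟩ := hcy.exists_ofOrder_eq_natCard
  rw [hcard, ← orderOf_coe] at hg
  obtain ⟨i, j, -, -, he⟩ := helts g g.2
  have : orderOf (g : G) ∣ s := by
    rw [orderOf_dvd_iff_pow_eq_one, he, (hc.pow_pow i j).mul_pow, ← pow_mul, ← pow_mul,
      Nat.mul_comm i, Nat.mul_comm j, pow_mul, pow_mul]
    rw [show x ^ s = 1 by rw [← hx]; exact pow_orderOf_eq_one x,
      show y ^ s = 1 by rw [← hy]; exact pow_orderOf_eq_one y, one_pow, one_pow, one_mul]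
  rw [hg] at this
  have h1 := Nat.le_of_dvd hs.pos this
  nlinarith [hs.two_le]

theorem hasNoncyclicAbelian_of_pair {s : ℕ} (hs : s.Prime) {x y : G} (hx : orderOf x = s)
    (hy : orderOf y = s) (hc : Commute x y) (hn : y ∉ zpowers x) : HasNoncyclicAbelian G s := by
  obtain ⟨P, h1, h2, h3, -⟩ := exists_sq_subgroup hs hx hy hc hn
  exact ⟨P, IsPGroup.of_card h1, h2, h3⟩

end H59.CIT
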