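import Cfsg.Agent.H37.PSL34
import Cfsg.Agent.H59.CIT.ElemAbelian

/-!
`PSL₃(4)`: a Klein four-group, and a Sylow 3-subgroup whose normaliser is transitive on its
nontrivial elements.
-/

set_option autoImplicit false
set_option linter.style.haveILetI false
set_option linter.unusedSectionVars false

namespace H59.CIT

open Matrix

set_option maxRecDepth 4000

/-- `SL₃(4)` over the computable model of the field. -/
abbrev SL34 : Type := Matrix.SpecialLinearGroup (Fin 3) H37.K4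

abbrev k4w : H37.K4 := ⟨0, 1⟩
abbrev k4z : H37.K4 := ⟨1, 1⟩

def t34₁ : SL34 := ⟨!![1, 0, 1; 0, 1, 0; 0, 0, 1], by decide +kernel⟩
def t34₂ : SL34 := ⟨!![1, 0, k4w; 0, 1, 0; 0, 0, 1], by decide +kernel⟩
def a34 : SL34 := ⟨!![1, 0, 0; 0, k4w, 0; 0, 0, k4z], by decide +kernel⟩
def b34 : SL34 := ⟨!![0, 0, 1; 1, 0, 0; 0, 1, 0], by decide +kernel⟩
def v34 : SL34 := ⟨!![1, 1, 1; 1, k4w, k4z; 1, k4z, k4w], by decide +kernel⟩
def w34 : SL34 := ⟨!![1, 1, k4z; 1, k4w, k4w; k4w, 1, k4w], by decide +kernel⟩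

/-- Equality up to a scalar. -/
def ScalarEq (s t : SL34) : Prop :=
  ∃ c : H37.K4, (s : Matrix (Fin 3) (Fin 3) H37.K4) = c • (t : Matrix (Fin 3) (Fin 3) H37.K4)

instance (s t : SL34) : Decidable (ScalarEq s t) :=
  inferInstanceAs (Decidable (∃ c : H37.K4,
    (s : Matrix (Fin 3) (Fin 3) H37.K4) = c • (t : Matrix (Fin 3) (Fin 3) H37.K4)))

def conjugators34 : Fin 8 → SL34 :=
  ![⟨!![1, 0, 0; 0, 1, 0; 0, 0, 1], by decide +kernel⟩,
   ⟨!![1, 1, 1; 1, k4w, k4z; 1, k4z, k4w], by decide +kernel⟩,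
   ⟨!![1, 0, 0; 0, 0, 1; 0, 1, 0], by decide +kernel⟩,
   ⟨!![1, 1, 1; 1, k4z, k4w; 1, k4w, k4z], by decide +kernel⟩,
   ⟨!![1, 1, k4z; 1, k4w, k4w; k4w, 1, k4w], by decide +kernel⟩,
   ⟨!![k4z, 1, k4z; 1, k4z, k4z; 1, 1, k4w], by decide +kernel⟩,
   ⟨!![1, k4z, 1; 1, k4w, k4w; k4w, k4w, 1], by decide +kernel⟩,
   ⟨!![k4z, k4z, 1; 1, k4z, k4z; 1, k4w, 1], by decide +kernel⟩]

def ab34 : Fin 3 → Fin 3 → SL34 :=
  ![![⟨!![1, 0, 0; 0, 1, 0; 0, 0, 1], by decide +kernel⟩, ⟨!![0, 0, 1; 1, 0, 0; 0, 1, 0], by decide +kernel⟩, ⟨!![0, 1, 0; 0, 0, 1; 1, 0, 0], by decide +kernel⟩],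
    ![⟨!![1, 0, 0; 0, k4w, 0; 0, 0, k4z], by decide +kernel⟩, ⟨!![0, 0, 1; k4w, 0, 0; 0, k4z, 0], by decide +kernel⟩, ⟨!![0, 1, 0; 0, 0, k4w; k4z, 0, 0], by decide +kernel⟩],
    ![⟨!![1, 0, 0; 0, k4z, 0; 0, 0, k4w], by decide +kernel⟩, ⟨!![0, 0, 1; k4z, 0, 0; 0, k4w, 0], by decide +kernel⟩, ⟨!![0, 1, 0; 0, 0, k4z; k4w, 0, 0], by decide +kernel⟩]]

/-- The exponents of the conjugates of `a34` and `b34` by `conjugators34`. -/
def images34 : Fin 8 → (Fin 3 × Fin 3) × (Fin 3 × Fin 3) :=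
  ![((1, 0), (0, 1)), ((0, 2), (1, 0)), ((2, 0), (0, 2)), ((0, 1), (2, 0)), ((2, 2), (2, 1)), ((1, 2), (2, 2)), ((1, 1), (1, 2)), ((2, 1), (1, 1))]

theorem sl34_basic :
    ScalarEq (t34₁ * t34₁) 1 ∧ ScalarEq (t34₂ * t34₂) 1 ∧ ScalarEq (t34₁ * t34₂) (t34₂ * t34₁) ∧
    ¬ ScalarEq t34₁ 1 ∧ ¬ ScalarEq t34₂ 1 ∧ ¬ ScalarEq t34₂ t34₁ ∧
    ScalarEq (a34 * a34 * a34) 1 ∧ ScalarEq (b34 * b34 * b34) 1 ∧
    ScalarEq (a34 * b34) (b34 * a34) ∧ ¬ ScalarEq a34 1 ∧ ¬ ScalarEq b34 1 ∧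
    ¬ ScalarEq b34 a34 ∧ ¬ ScalarEq b34 (a34 * a34) := by
  decide +kernel

theorem ab34_eq : ∀ i j : Fin 3, ScalarEq (ab34 i j) (a34 ^ (i : ℕ) * b34 ^ (j : ℕ)) := by
  decide +kernel

theorem sl34_normalizes : ∀ k : Fin 8,
    ScalarEq (conjugators34 k * a34) (ab34 (images34 k).1.1 (images34 k).1.2 * conjugators34 k) ∧
    ScalarEq (conjugators34 k * b34) (ab34 (images34 k).2.1 (images34 k).2.2 * conjugators34 k) := by
  decide +kernel

theorem sl34_transitive : ∀ i j : Fin 3, (i ≠ 0 ∨ j ≠ 0) → ∃ k, (images34 k).1 = (i, j) := by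
  decide +kernel

variable {F : Type*} [Field F] [Fintype F]

/-- The reduction map from the model to `PSL₃(F)`. -/
def phi34 (e : H37.K4 ≃+* F) : SL34 →* ProjectiveSpecialLinearGroup (Fin 3) F :=
  (QuotientGroup.mk' _).comp (Matrix.SpecialLinearGroup.map (e : H37.K4 →+* F))

theorem phi34_eq_iff (e : H37.K4 ≃+* F) (s t : SL34) : phi34 e s = phi34 e t ↔ ScalarEq s t := by
  show (QuotientGroup.mk _ : ProjectiveSpecialLinearGroup (Fin 3) F) = QuotientGroup.mk _ ↔ _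
  rw [QuotientGroup.eq, Matrix.SpecialLinearGroup.mem_center_iff, ← map_inv, ← map_mul]
  constructor
  · rintro ⟨r, hr, hg⟩
    obtain ⟨c, rfl⟩ := e.surjective r
    have hst : ((s⁻¹ * t : SL34) : Matrix (Fin 3) (Fin 3) H37.K4) = scalar (Fin 3) c := by
      apply Matrix.map_injective e.injective
      show (Matrix.SpecialLinearGroup.map (e : H37.K4 →+* F) (s⁻¹ * t) : Matrix (Fin 3) (Fin 3) F) = _
      rw [← hg]
      ext i j
      by_cases hij : i = j <;> simp [hij]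
    have hc : c * (c * c) = 1 := by
      apply e.injective
      rw [map_mul, map_mul, map_one, ← hr, Fintype.card_fin]
      ring
    refine ⟨c * c, Matrix.ext fun i j => ?_⟩
    have ht : (t : Matrix (Fin 3) (Fin 3) H37.K4) = (s : Matrix (Fin 3) (Fin 3) H37.K4) * scalar (Fin 3) c := by
      rw [← hst, ← Matrix.SpecialLinearGroup.coe_mul, mul_inv_cancel_left]
    rw [ht, Matrix.smul_apply, Matrix.scalar_apply, Matrix.mul_diagonal, smul_eq_mul]
    linear_combination -((s : Matrix (Fin 3) (Fin 3) H37.K4) i j) * hc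
  · rintro ⟨c, hs⟩
    have hc3 : c ^ 3 = 1 := by
      have h := congrArg Matrix.det hs
      rw [s.2, Matrix.det_smul, t.2, Fintype.card_fin, mul_one] at h
      exact h.symm
    have h1 : (c • 1 : Matrix (Fin 3) (Fin 3) H37.K4) * ((s⁻¹ * t : SL34) : Matrix (Fin 3) (Fin 3) H37.K4) = 1 := by
      rw [smul_mul_assoc, one_mul, Matrix.SpecialLinearGroup.coe_mul, ← mul_smul_comm, ← hs,
        ← Matrix.SpecialLinearGroup.coe_mul, inv_mul_cancel, Matrix.SpecialLinearGroup.coe_one]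
    have hst : ((s⁻¹ * t : SL34) : Matrix (Fin 3) (Fin 3) H37.K4) = scalar (Fin 3) (c ^ 2) := by
      have h2 := congrArg (fun X => (c ^ 2) • X) h1
      simp only [smul_mul_assoc, one_mul, smul_smul] at h2
      rw [← pow_succ, hc3, one_smul] at h2
      rw [h2, Matrix.smul_one_eq_diagonal, Matrix.scalar_apply]
    refine ⟨e (c ^ 2), ?_, ?_⟩
    · rw [← map_pow, Fintype.card_fin, ← pow_mul, mul_comm, pow_mul, hc3, one_pow, map_one]
    · show _ = (((s⁻¹ * t : SL34) : Matrix (Fin 3) (Fin 3) H37.K4)).map (e : H37.K4 →+* F)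
      rw [hst]
      ext i j
      by_cases hij : i = j <;> simp [hij]

theorem exists_k4_equiv (hF : Fintype.card F = 4) : Nonempty (H37.K4 ≃+* F) :=
  ⟨FiniteField.ringEquivOfCardEq (by rw [hF, ← Nat.card_eq_fintype_card, H37.card_K4])⟩

theorem psl34_klein (hF : Fintype.card F = 4) :
    HasNoncyclicAbelian (ProjectiveSpecialLinearGroup (Fin 3) F) 2 := by
  obtain ⟨e⟩ := exists_k4_equiv hF
  obtain ⟨h1, h2, hc, n1, n2, n3, -⟩ := sl34_basic
  rw [← phi34_eq_iff e] at h1 h2 hc n1 n2 n3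
  simp only [map_mul, map_one] at h1 h2 hc n1 n2
  have ho : ∀ x : ProjectiveSpecialLinearGroup (Fin 3) F, x * x = 1 → x ≠ 1 → orderOf x = 2 :=
    fun x hx hx1 => orderOf_eq_prime (by rw [sq, hx]) hx1
  refine hasNoncyclicAbelian_of_pair Nat.prime_two (ho _ h1 n1) (ho _ h2 n2) hc ?_
  intro hmem
  rw [← IsOfFinOrder.mem_powers_iff_mem_zpowers (isOfFinOrder_of_finite _)] at hmem
  obtain ⟨i, hi⟩ := hmem
  have hi : phi34 e t34₁ ^ i = phi34 e t34₂ := hi
  rcases Nat.mod_two_eq_zero_or_one i with hm | hm <;>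
    rw [← pow_mod_orderOf, ho _ h1 n1, hm] at hi <;> simp at hi
  · exact n2 hi.symm
  · exact n3 hi.symm

theorem psl34_three (hF : Fintype.card F = 4) :
    ∃ P : Subgroup (ProjectiveSpecialLinearGroup (Fin 3) F), Nat.card P = 9 ∧
      IsMulCommutative P ∧ ¬ IsCyclic P ∧
      8 ∣ Nat.card (Subgroup.normalizer (P : Set (ProjectiveSpecialLinearGroup (Fin 3) F))) := by
  classical
  obtain ⟨e⟩ := exists_k4_equiv hF
  obtain ⟨-, -, -, -, -, -, h1, h2, hc, n1, n2, n3, n4⟩ := sl34_basic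
  rw [← phi34_eq_iff e] at h1 h2 hc n1 n2 n3 n4
  simp only [map_mul, map_one] at h1 h2 hc n1 n2 n4
  set x := phi34 e a34 with hx
  set y := phi34 e b34 with hy
  haveI : Fact (Nat.Prime 3) := ⟨Nat.prime_three⟩
  have ho : ∀ z : ProjectiveSpecialLinearGroup (Fin 3) F, z * z * z = 1 → z ≠ 1 → orderOf z = 3 :=
    fun z hz hz1 => orderOf_eq_prime (by rw [pow_succ, sq, hz]) hz1
  have hyn : y ∉ Subgroup.zpowers x := by
    intro hmem
    rw [← IsOfFinOrder.mem_powers_iff_mem_zpowers (isOfFinOrder_of_finite _)] at hmem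
    obtain ⟨i, hi⟩ := hmem
    have hi : x ^ i = y := hi
    rw [← pow_mod_orderOf, ho _ h1 n1] at hi
    have : i % 3 = 0 ∨ i % 3 = 1 ∨ i % 3 = 2 := by omega
    rcases this with hm | hm | hm <;> rw [hm] at hi
    · exact n2 (by rw [← hi, pow_zero])
    · exact n3 (by rw [← hi, pow_one])
    · exact n4 (by rw [← hi, sq])
  obtain ⟨P, hP, hab, hncy, hxP, hyP, helts⟩ :=
    exists_sq_subgroup Nat.prime_three (ho _ h1 n1) (ho _ h2 n2) hc hyn
  refine ⟨P, by rw [hP]; norm_num, hab, hncy, ?_⟩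
  set N := Subgroup.normalizer (P : Set (ProjectiveSpecialLinearGroup (Fin 3) F))
  have hab34 : ∀ i j : Fin 3, phi34 e (ab34 i j) = x ^ (i : ℕ) * y ^ (j : ℕ) := by
    intro i j
    rw [(phi34_eq_iff e _ _).2 (ab34_eq i j), map_mul, map_pow, map_pow]
  have himg : ∀ (u s : SL34) (i j : Fin 3), ScalarEq (u * s) (ab34 i j * u) →
      phi34 e u * phi34 e s * (phi34 e u)⁻¹ = x ^ (i : ℕ) * y ^ (j : ℕ) := by
    intro u s i j h
    rw [← phi34_eq_iff e, map_mul, map_mul, hab34] at h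
    rw [h, mul_inv_cancel_right]
  have hmemN : ∀ k, phi34 e (conjugators34 k) ∈ N := by
    intro k
    obtain ⟨hij, hkl⟩ := sl34_normalizes k
    set u := conjugators34 k
    have hmap : ∀ z ∈ P, phi34 e u * z * (phi34 e u)⁻¹ ∈ P := by
      intro z hz
      obtain ⟨m, n, -, -, rfl⟩ := helts z hz
      rw [← conj_mul, ← conj_pow, ← conj_pow, himg u a34 _ _ hij, himg u b34 _ _ hkl]
      exact P.mul_mem (P.pow_mem (P.mul_mem (P.pow_mem hxP _) (P.pow_mem hyP _)) _)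
        (P.pow_mem (P.mul_mem (P.pow_mem hxP _) (P.pow_mem hyP _)) _)
    have hinj : Function.Injective (fun w : P => (⟨_, hmap w w.2⟩ : P)) :=
      fun w w' h => Subtype.ext (by simpa using congrArg Subtype.val h)
    refine Subgroup.mem_normalizer_iff.2 fun z => ⟨hmap z, fun hz => ?_⟩
    obtain ⟨⟨w, hw⟩, he⟩ := (Finite.injective_iff_surjective.1 hinj) ⟨_, hz⟩
    have he' := congrArg Subtype.val he
    simp only [mul_left_inj, mul_right_inj] at he'
    exact he' ▸ hw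
  letI : MulAction N (ProjectiveSpecialLinearGroup (Fin 3) F) :=
    MulAction.compHom _ (MulAut.conj.comp N.subtype)
  have horb : MulAction.orbit N x = (P : Set (ProjectiveSpecialLinearGroup (Fin 3) F)) \ {1} := by
    ext z
    constructor
    · rintro ⟨g, rfl⟩
      have hval : g • x = (g : ProjectiveSpecialLinearGroup (Fin 3) F) * x * (g : _)⁻¹ := rfl
      refine ⟨by show g • x ∈ P; rw [hval]; exact (Subgroup.mem_normalizer_iff.1 g.2 x).1 hxP, ?_⟩
      intro h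
      have h' : g • x = 1 := h
      rw [hval] at h'
      exact n1 (conj_eq_one_iff.1 h')
    · rintro ⟨hz, hz1⟩
      obtain ⟨m, n, hm, hn, rfl⟩ := helts z hz
      have hne : (⟨m, hm⟩ : Fin 3) ≠ 0 ∨ (⟨n, hn⟩ : Fin 3) ≠ 0 := by
        by_contra hh
        simp only [not_or, not_not, Fin.ext_iff] at hh
        apply hz1
        simp [show m = 0 from hh.1, show n = 0 from hh.2]
      obtain ⟨k, hk⟩ := sl34_transitive _ _ hne
      refine ⟨⟨_, hmemN k⟩, (himg _ a34 _ _ (sl34_normalizes k).1).trans ?_⟩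
      rw [hk]
  have h8 : (MulAction.orbit N x).ncard = 8 := by
    rw [horb, Set.ncard_sdiff_singleton_of_mem P.one_mem, ← Nat.card_coe_set_eq, SetLike.coe_sort_coe, hP]
    norm_num
  rw [← h8, ← MulAction.index_stabilizer]
  exact Subgroup.index_dvd_card _

end H59.CIT
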