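import Cfsg.Agent.H59.CIT.EPPO

/-!
Frattini's argument in a group with all element orders prime powers: the normaliser of a Sylow
subgroup of a normal subgroup is restricted by the primes dividing the index.
-/

set_option autoImplicit false
set_option linter.style.haveILetI false

namespace H59.CIT

open Subgroup

variable {X : Type*} [Group X] [Finite X]

theorem PPO.outer_dvd (h : PPO X) (M : Subgroup X) [hMn : M.Normal] {q s : ℕ} [hq : Fact q.Prime]
    [hs : Fact s.Prime] (hne : s ≠ q) (hidx : q ∣ M.index) (P : Sylow s M) {k : ℕ}
    (hk : q ^ k ∣ Nat.card (normalizer ((P : Subgroup M) : Set M))) :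
    q ^ (k + 1) ∣ Nat.card P - 1 := by
  set P' : Subgroup X := (P : Subgroup M).map M.subtype
  set N : Subgroup X := normalizer (P' : Set X)
  have hsup : N ⊔ M = ⊤ := Sylow.normalizer_sup_eq_top P
  have hle : (normalizer ((P : Subgroup M) : Set M)).map M.subtype ≤ N ⊓ M :=
    le_inf (le_normalizer_map _) (map_subtype_le _)
  have hk' : q ^ k ∣ Nat.card (N ⊓ M : Subgroup X) := by
    refine hk.trans ?_
    rw [← card_map_of_injective M.subtype_injective]
    exact card_dvd_of_le hle
  have hrel : M.relIndex N = M.index := by
    rw [← relIndex_top_right, ← hsup, relIndex_sup_right]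
  have hN : Nat.card N = M.index * Nat.card (N ⊓ M : Subgroup X) := by
    rw [← hrel, inf_comm, ← inf_relIndex_right, ← relIndex_bot_left,
      ← relIndex_bot_left, mul_comm, relIndex_mul_relIndex _ _ _ bot_le inf_le_right]
  have hd : q ^ (k + 1) ∣ Nat.card N := by
    rw [hN, pow_succ']
    exact mul_dvd_mul hidx hk'
  obtain ⟨T, hT⟩ := Sylow.exists_subgroup_card_pow_prime q hd
  have hTc : Nat.card (T.map N.subtype) = q ^ (k + 1) := by
    rw [card_map_of_injective N.subtype_injective, hT]
  have := h.card_dvd_sub_one hne (T.map N.subtype) P' (IsPGroup.of_card hTc)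
    (P.isPGroup'.map M.subtype) (map_subtype_le T)
  rwa [hTc, card_map_of_injective M.subtype_injective] at this

theorem exists_sylow_transfer {K M : Type*} [Group K] [Group M] [Finite K] [Finite M] (e : K ≃* M)
    {s : ℕ} [Fact s.Prime] (P : Sylow s K) :
    ∃ P' : Sylow s M, Nat.card P' = Nat.card P ∧
      Nat.card (normalizer ((P : Subgroup K) : Set K)) ∣
        Nat.card (normalizer ((P' : Subgroup M) : Set M)) := by
  refine ⟨P.mapSurjective (f := e.toMonoidHom) e.surjective, ?_, ?_⟩
  · exact card_map_of_injective e.injective
  · rw [← card_map_of_injective (K := normalizer ((P : Subgroup K) : Set K)) (f := e.toMonoidHom) e.injective]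
    refine card_dvd_of_le ?_
    exact le_normalizer_map _

end H59.CIT
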