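import Cfsg.Agent.H59.CIT.SimpleEPPO
import Cfsg.Agent.H59.CIT.LThreeFour
import Cfsg.Agent.H59.CIT.Outer
import Cfsg.Agent.H57.SzTwo

/-!
The orders of the simple groups with all element orders prime powers, and the absence of outer
automorphisms compatible with that property for `PSL₃(4)`, `Sz(8)` and `Sz(32)`.
-/

set_option autoImplicit false
set_option linter.style.haveILetI false
set_option linter.unusedSectionVars false

namespace H59.CIT

open Subgroup

theorem sylow_card_of_eq {M : Type*} [Group M] [Finite M] {s a b : ℕ} [hs : Fact s.Prime]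
    (hc : Nat.card M = s ^ a * b) (hb : ¬ s ∣ b) (P : Sylow s M) : Nat.card P = s ^ a := by
  obtain ⟨i, hi⟩ := P.isPGroup'.exists_card_eq
  have hm := (P : Subgroup M).card_mul_index
  rw [hi, hc] at hm
  have h1 : s ^ a ∣ s ^ i := (Nat.Coprime.pow_left _ (hs.out.coprime_iff_not_dvd.2
    P.not_dvd_index)).dvd_of_dvd_mul_right ⟨b, hm⟩
  have h2 : s ^ i ∣ s ^ a := (Nat.Coprime.pow_left _ (hs.out.coprime_iff_not_dvd.2 hb)).dvd_of_dvd_mul_right
    ⟨(P : Subgroup M).index, hm.symm⟩
  rw [hi]
  exact Nat.dvd_antisymm h2 h1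

section psl34

variable {F : Type*} [Field F] [Fintype F]

theorem card_psl34 (hF : Fintype.card F = 4) :
    Nat.card (Matrix.ProjectiveSpecialLinearGroup (Fin 3) F) = 20160 := by
  have h := H37.card_PSL_fin (F := F) 3 (by norm_num)
  rw [Nat.card_eq_fintype_card (α := F), hF] at h
  norm_num [Fin.prod_univ_three] at h
  omega

theorem psl34_outer {X : Type*} [Group X] [Finite X] (hF : Fintype.card F = 4) (h : PPO X)
    (M : Subgroup X) [M.Normal] [IsSimpleGroup M] (hM : ¬ IsMulCommutative M)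
    (e : Matrix.ProjectiveSpecialLinearGroup (Fin 3) F ≃* M) : M = ⊤ := by
  have hc : Nat.card M = 20160 := by rw [← Nat.card_congr e.toEquiv, card_psl34 hF]
  by_contra hne
  obtain ⟨q, hq, hidx⟩ := Nat.exists_prime_and_dvd (show M.index ≠ 1 by rwa [Ne, index_eq_one])
  haveI := Fact.mk hq
  have hqc : q ∣ 20160 := hc ▸ h.dvd_card_of_normal M hM hq (hidx.trans M.index_dvd_card)
  have hq' : q = 2 ∨ q = 3 ∨ q = 5 ∨ q = 7 := by
    have hmem : q ∈ Nat.primeFactors 20160 := Nat.mem_primeFactors.2 ⟨hq, hqc, by norm_num⟩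
    rw [show Nat.primeFactors 20160 = {2, 3, 5, 7} by simp +decide [Nat.primeFactors]] at hmem
    simpa using hmem
  haveI : Fact (Nat.Prime 3) := ⟨Nat.prime_three⟩
  haveI : Fact (Nat.Prime 5) := ⟨by norm_num⟩
  have h3 : ∀ P : Sylow 3 M, Nat.card P = 3 ^ 2 :=
    sylow_card_of_eq (b := 2240) (by rw [hc]; norm_num) (by norm_num)
  have h5 : ∀ P : Sylow 5 M, Nat.card P = 5 ^ 1 :=
    sylow_card_of_eq (b := 4032) (by rw [hc]; norm_num) (by norm_num)
  rcases hq' with rfl | rfl | rfl | rfl
  · obtain ⟨P, hP, -, -, h8⟩ := psl34_three hF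
    have hPp : IsPGroup 3 P := IsPGroup.of_card (n := 2) (by rw [hP]; norm_num)
    have hPi : ¬ 3 ∣ P.index := by
      have := P.card_mul_index
      rw [hP, card_psl34 hF] at this
      omega
    obtain ⟨P', hc', hn'⟩ := exists_sylow_transfer e (hPp.toSylow hPi)
    have := h.outer_dvd M (s := 3) (by norm_num) hidx P' (k := 3) (h8.trans hn')
    rw [h3 P'] at this
    norm_num at this
  · have := h.outer_dvd M (s := 5) (by norm_num) hidx default (k := 0) (one_dvd _)
    rw [h5] at this
    norm_num at this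
  · have := h.outer_dvd M (s := 3) (by norm_num) hidx default (k := 0) (one_dvd _)
    rw [h3] at this
    norm_num at this
  · have := h.outer_dvd M (s := 3) (by norm_num) hidx default (k := 0) (one_dvd _)
    rw [h3] at this
    norm_num at this

theorem psl34_nine (hF : Fintype.card F = 4) :
    HasNoncyclicAbelian (Matrix.ProjectiveSpecialLinearGroup (Fin 3) F) 3 := by
  obtain ⟨P, hP, hab, hncy, -⟩ := psl34_three hF
  exact ⟨P, IsPGroup.of_card (n := 2) (by rw [hP]; norm_num), hab, hncy⟩

end psl34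

section sz

variable {F : Type*} [Field F] [Fintype F] {m : ℕ}

theorem sz_klein (hm : 1 ≤ m) (hF : Fintype.card F = 2 ^ (2 * m + 1)) :
    HasNoncyclicAbelian (Cfsg.Sz F m) 2 := by
  classical
  obtain ⟨c, hc0, hc1⟩ : ∃ c : F, c ≠ 0 ∧ c ≠ 1 := by
    have h8 : 2 ^ 3 ≤ Fintype.card F := hF ▸ Nat.pow_le_pow_right (by norm_num) (by omega)
    obtain ⟨c, hc⟩ := Finset.exists_mem_notMem_of_card_lt_card
      (show ({0, 1} : Finset F).card < (Finset.univ : Finset F).card by
        rw [Finset.card_univ]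
        exact lt_of_le_of_lt Finset.card_le_two (by omega))
    exact ⟨c, by simpa using hc.2⟩
  have hmul : ∀ b d : F, H57.tEl (m := m) hF 0 b * H57.tEl hF 0 d = H57.tEl hF 0 (b + d) := by
    intro b d
    rw [H57.tEl_mul, add_zero, H57.th_zero, zero_mul, add_zero]
  have ho : ∀ b : F, b ≠ 0 → orderOf (H57.tEl (m := m) hF 0 b) = 2 := by
    intro b hb
    haveI : Fact (Nat.Prime 2) := ⟨Nat.prime_two⟩
    refine orderOf_eq_prime ?_ ?_
    · rw [sq, hmul, show b + b = 0 by rw [← two_mul, H57.two_eq_zero hF, zero_mul], H57.tEl_zero]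
    · rw [← H57.tEl_zero hF]
      exact fun he => hb (H57.tEl_inj hF he).2
  refine hasNoncyclicAbelian_of_pair Nat.prime_two (ho 1 one_ne_zero) (ho c hc0)
    (show _ = _ by rw [hmul, hmul, add_comm]) ?_
  intro hmem
  rw [← IsOfFinOrder.mem_powers_iff_mem_zpowers (isOfFinOrder_of_finite _)] at hmem
  obtain ⟨i, hi⟩ := hmem
  have hi : H57.tEl (m := m) hF 0 1 ^ i = H57.tEl hF 0 c := hi
  rw [← pow_mod_orderOf, ho 1 one_ne_zero] at hi
  rcases Nat.mod_two_eq_zero_or_one i with hm | hm <;> rw [hm] at hi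
  · rw [pow_zero, ← H57.tEl_zero hF] at hi
    exact hc0 (H57.tEl_inj hF hi).2.symm
  · rw [pow_one] at hi
    exact hc1 (H57.tEl_inj hF hi).2.symm

theorem card_sz_cases (hm : m = 1 ∨ m = 2) (hF : Fintype.card F = 2 ^ (2 * m + 1)) :
    (m = 1 ∧ Nat.card (Cfsg.Sz F m) = 29120) ∨ (m = 2 ∧ Nat.card (Cfsg.Sz F m) = 32537600) := by
  rcases hm with rfl | rfl
  · exact Or.inl ⟨rfl, by rw [H57.card_sz le_rfl hF]; norm_num⟩
  · exact Or.inr ⟨rfl, by rw [H57.card_sz (by norm_num) hF]; norm_num⟩

theorem sz_outer {X : Type*} [Group X] [Finite X] (hm : m = 1 ∨ m = 2)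
    (hF : Fintype.card F = 2 ^ (2 * m + 1)) (h : PPO X)
    (M : Subgroup X) [M.Normal] [IsSimpleGroup M] (hM : ¬ IsMulCommutative M)
    (e : Cfsg.Sz F m ≃* M) : M = ⊤ := by
  by_contra hne
  obtain ⟨q, hq, hidx⟩ := Nat.exists_prime_and_dvd (show M.index ≠ 1 by rwa [Ne, index_eq_one])
  haveI := Fact.mk hq
  haveI : Fact (Nat.Prime 2) := ⟨Nat.prime_two⟩
  haveI : Fact (Nat.Prime 5) := ⟨by norm_num⟩
  have hqc : q ∣ Nat.card M := h.dvd_card_of_normal M hM hq (hidx.trans M.index_dvd_card)
  have hqmem : ∀ n, Nat.card M = n → q ∈ n.primeFactors := fun n hn =>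
    Nat.mem_primeFactors.2 ⟨hq, hn ▸ hqc, hn ▸ Nat.card_pos.ne'⟩
  have hD : Nat.card (H57.dSub (m := m) hF) = 2 ^ (2 * m + 1) - 1 := H57.card_dSub hF
  have hm1 : 1 ≤ m := by omega
  have hN := H57.card_normalizer_dSub hm1 hF
  rcases card_sz_cases hm hF with ⟨rfl, hc⟩ | ⟨rfl, hc⟩
  · have hcM : Nat.card M = 29120 := by rw [← Nat.card_congr e.toEquiv, hc]
    have h5 : ∀ P : Sylow 5 M, Nat.card P = 5 ^ 1 :=
      sylow_card_of_eq (b := 5824) (by rw [hcM]; norm_num) (by norm_num)
    have h2 : ∀ P : Sylow 2 M, Nat.card P = 2 ^ 6 :=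
      sylow_card_of_eq (b := 455) (by rw [hcM]; norm_num) (by norm_num)
    have hq' := hqmem _ hcM
    rw [show Nat.primeFactors 29120 = {2, 5, 7, 13} by simp +decide [Nat.primeFactors]] at hq'
    simp only [Finset.mem_insert, Finset.mem_singleton] at hq'
    rcases hq' with rfl | rfl | rfl | rfl
    · haveI : Fact (Nat.Prime 7) := ⟨by norm_num⟩
      norm_num at hD hN
      have hp : IsPGroup 7 (H57.dSub (m := 1) hF) := IsPGroup.of_card (n := 1) (by rw [hD]; norm_num)
      have hi : ¬ 7 ∣ (H57.dSub (m := 1) hF).index := by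
        have := (H57.dSub (m := 1) hF).card_mul_index
        rw [hD, hc] at this
        omega
      obtain ⟨P', hc', hn'⟩ := exists_sylow_transfer e (hp.toSylow hi)
      have := h.outer_dvd M (s := 7) (by norm_num) hidx P' (k := 1) ((show 2 ^ 1 ∣ _ by
        refine dvd_trans ?_ (dvd_of_eq hN.symm)
        norm_num).trans hn')
      rw [hc', show Nat.card (hp.toSylow hi : Sylow 7 (Cfsg.Sz F 1)) = 7 from hD] at this
      norm_num at this
    · have := h.outer_dvd M (s := 2) (by norm_num) hidx default (k := 0) (one_dvd _)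
      rw [h2] at this
      norm_num at this
    · have := h.outer_dvd M (s := 5) (by norm_num) hidx default (k := 0) (one_dvd _)
      rw [h5] at this
      norm_num at this
    · have := h.outer_dvd M (s := 5) (by norm_num) hidx default (k := 0) (one_dvd _)
      rw [h5] at this
      norm_num at this
  · have hcM : Nat.card M = 32537600 := by rw [← Nat.card_congr e.toEquiv, hc]
    have h5 : ∀ P : Sylow 5 M, Nat.card P = 5 ^ 2 :=
      sylow_card_of_eq (b := 1301504) (by rw [hcM]; norm_num) (by norm_num)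
    have h2 : ∀ P : Sylow 2 M, Nat.card P = 2 ^ 10 :=
      sylow_card_of_eq (b := 31775) (by rw [hcM]; norm_num) (by norm_num)
    have hq' := hqmem _ hcM
    rw [show Nat.primeFactors 32537600 = {2, 5, 31, 41} by
      rw [show (32537600 : ℕ) = 2 ^ 10 * 5 ^ 2 * 31 * 41 by norm_num,
        Nat.primeFactors_mul (by norm_num) (by norm_num), Nat.primeFactors_mul (by norm_num) (by norm_num),
        Nat.primeFactors_mul (by norm_num) (by norm_num), Nat.primeFactors_pow _ (by norm_num),
        Nat.primeFactors_pow _ (by norm_num), Nat.prime_two.primeFactors,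
        (show Nat.Prime 5 by norm_num).primeFactors, (show Nat.Prime 31 by norm_num).primeFactors,
        (show Nat.Prime 41 by norm_num).primeFactors]
      rfl] at hq'
    simp only [Finset.mem_insert, Finset.mem_singleton] at hq'
    rcases hq' with rfl | rfl | rfl | rfl
    · haveI : Fact (Nat.Prime 31) := ⟨by norm_num⟩
      norm_num at hD hN
      have hp : IsPGroup 31 (H57.dSub (m := 2) hF) := IsPGroup.of_card (n := 1) (by rw [hD]; norm_num)
      have hi : ¬ 31 ∣ (H57.dSub (m := 2) hF).index := by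
        have := (H57.dSub (m := 2) hF).card_mul_index
        rw [hD, hc] at this
        omega
      obtain ⟨P', hc', hn'⟩ := exists_sylow_transfer e (hp.toSylow hi)
      have := h.outer_dvd M (s := 31) (by norm_num) hidx P' (k := 1) ((show 2 ^ 1 ∣ _ by
        refine dvd_trans ?_ (dvd_of_eq hN.symm)
        norm_num).trans hn')
      rw [hc', show Nat.card (hp.toSylow hi : Sylow 31 (Cfsg.Sz F 2)) = 31 from hD] at this
      norm_num at this
    · have := h.outer_dvd M (s := 2) (by norm_num) hidx default (k := 0) (one_dvd _)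
      rw [h2] at this
      norm_num at this
    · have := h.outer_dvd M (s := 5) (by norm_num) hidx default (k := 0) (one_dvd _)
      rw [h5] at this
      norm_num at this
    · have := h.outer_dvd M (s := 5) (by norm_num) hidx default (k := 0) (one_dvd _)
      rw [h5] at this
      norm_num at this

end sz

end H59.CIT
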