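import Mathlib

/-!
Small exponential equations used for simple groups with prime-power element orders.
-/

set_option autoImplicit false

namespace H59.CIT

theorem exists_pow_of_isPrimePow {x p : ℕ} (hp : p.Prime) (hx : IsPrimePow x) (hd : p ∣ x) :
    ∃ j, 1 ≤ j ∧ x = p ^ j := by
  obtain ⟨r, k, hr, hk, rfl⟩ := (isPrimePow_nat_iff x).1 hx
  obtain rfl := (Nat.prime_dvd_prime_iff_eq hp hr).1 (hp.dvd_of_dvd_pow hd)
  exact ⟨k, hk, rfl⟩

theorem three_pow_mod_eight (j : ℕ) : 3 ^ j % 8 = if Even j then 1 else 3 := by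
  induction j with
  | zero => simp
  | succ j ih =>
    rw [pow_succ, Nat.mul_mod, ih]
    by_cases h : Even j <;> simp [h, Nat.even_add_one]

theorem two_pow_add_two {a b : ℕ} (h : 2 ^ a + 2 = 2 ^ b) : a = 1 := by
  rcases Nat.lt_or_ge a 2 with ha | ha
  · interval_cases a
    · exfalso
      rcases Nat.eq_zero_or_pos b with rfl | hb
      · norm_num at h
      · have : 2 ∣ 2 ^ b := dvd_pow_self 2 hb.ne'
        omega
    · rfl
  · exfalso
    have h4 : 4 ∣ 2 ^ a := Nat.pow_dvd_pow 2 ha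
    rcases Nat.lt_or_ge b 2 with hb | hb
    · have : 2 ^ b ≤ 2 := by
        have := Nat.pow_le_pow_right (show 0 < 2 by norm_num) (show b ≤ 1 by omega)
        rwa [pow_one] at this
      have := Nat.one_le_two_pow (n := a)
      omega
    · have : 4 ∣ 2 ^ b := Nat.pow_dvd_pow 2 hb
      omega

theorem two_pow_sub_one_eq_three_pow {n j : ℕ} (hn : 1 ≤ n) (h : 2 ^ n - 1 = 3 ^ j) :
    n = 1 ∨ n = 2 := by
  by_contra hne
  have h8 : 8 ∣ 2 ^ n := Nat.pow_dvd_pow 2 (show 3 ≤ n by omega)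
  have h3 := three_pow_mod_eight j
  have hpos : 1 ≤ 2 ^ n := Nat.one_le_two_pow
  split_ifs at h3 <;> omega

theorem two_pow_add_one_eq_three_pow {n j : ℕ} (hn : 1 ≤ n) (h : 2 ^ n + 1 = 3 ^ j) :
    n = 1 ∨ n = 3 := by
  rcases Nat.lt_or_ge n 3 with hn3 | hn3
  · interval_cases n
    · exact Or.inl rfl
    · exfalso
      rcases Nat.lt_or_ge j 2 with hj | hj
      · interval_cases j <;> norm_num at h
      · have : 3 ^ 2 ≤ 3 ^ j := Nat.pow_le_pow_right (by norm_num) hj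
        omega
  · refine Or.inr ?_
    have h8 : 8 ∣ 2 ^ n := Nat.pow_dvd_pow 2 hn3
    have h3 := three_pow_mod_eight j
    split_ifs at h3 with hj
    · obtain ⟨i, rfl⟩ := hj
      have h1 : 1 ≤ 3 ^ i := Nat.one_le_pow _ _ (by norm_num)
      have hfac : (3 ^ i - 1) * (3 ^ i + 1) = 2 ^ n := by
        obtain ⟨c, hc⟩ : ∃ c, 3 ^ i = c + 1 := ⟨3 ^ i - 1, by omega⟩
        rw [hc, Nat.add_sub_cancel]
        rw [pow_add, hc] at h
        linarith
      obtain ⟨a, -, ha⟩ := (Nat.dvd_prime_pow Nat.prime_two).1 (Dvd.intro _ hfac)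
      obtain ⟨b, -, hb⟩ := (Nat.dvd_prime_pow Nat.prime_two).1 (Dvd.intro_left _ hfac)
      obtain rfl := two_pow_add_two (show 2 ^ a + 2 = 2 ^ b by omega)
      have hi : 3 ^ i = 3 := by omega
      rw [pow_add, hi] at h
      exact Nat.pow_right_injective (le_refl 2) (show 2 ^ n = 2 ^ 3 by omega)
    · omega

theorem three_dvd_two_pow_sub_one {n : ℕ} (h : Even n) : 3 ∣ 2 ^ n - 1 := by
  obtain ⟨i, rfl⟩ := h
  have : 2 ^ (i + i) % 3 = 1 := by
    rw [← two_mul, pow_mul, Nat.pow_mod]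
    norm_num
  generalize 2 ^ (i + i) = x at this ⊢
  omega

theorem three_dvd_two_pow_add_one {n : ℕ} (h : Odd n) : 3 ∣ 2 ^ n + 1 := by
  obtain ⟨i, rfl⟩ := h
  have : 2 ^ (2 * i + 1) % 3 = 2 := by
    rw [pow_succ, pow_mul, Nat.mul_mod, Nat.pow_mod]
    norm_num
  generalize 2 ^ (2 * i + 1) = x at this ⊢
  omega

/-- If `2^(m+1)` divides `5^j - 1` and `5^j ≤ 2^(2m+2)`, then `m ≤ 2`. -/
theorem le_two_of_five_pow {m j : ℕ} (hm : 1 ≤ m) (hj : 1 ≤ j) (hd : 2 ^ (m + 1) ∣ 5 ^ j - 1)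
    (hle : 5 ^ j ≤ 2 ^ (2 * m + 2)) : m ≤ 2 := by
  obtain ⟨k, rfl⟩ : ∃ k, m = k + 1 := ⟨m - 1, by omega⟩
  have h1 : (5 : ZMod (2 ^ (k + 2))) ^ j = 1 := by
    have h5 : 1 ≤ 5 ^ j := Nat.one_le_pow _ _ (by norm_num)
    have h0 : ((5 ^ j - 1 : ℕ) : ZMod (2 ^ (k + 2))) = 0 := (ZMod.natCast_eq_zero_iff _ _).2 hd
    rw [Nat.cast_sub h5, Nat.cast_pow, Nat.cast_one, sub_eq_zero] at h0
    exact_mod_cast h0
  have hdvd := orderOf_dvd_of_pow_eq_one h1
  rw [ZMod.orderOf_five] at hdvd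
  have hkj : 2 ^ k ≤ j := Nat.le_of_dvd hj hdvd
  by_contra hk
  have h2 : 2 ^ (2 * j) < 2 ^ (2 * (k + 1) + 2) := by
    refine lt_of_lt_of_le ?_ hle
    rw [pow_mul]
    exact Nat.pow_lt_pow_left (by norm_num) (by omega)
  have h3 := (Nat.pow_lt_pow_iff_right (show 1 < 2 by norm_num)).1 h2
  rcases Nat.lt_or_ge k 3 with hk3 | hk3
  · obtain rfl : k = 2 := by omega
    have : 5 ^ 4 ≤ 5 ^ j := Nat.pow_le_pow_right (by norm_num) hkj
    norm_num at hle this
    omega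
  · have h8 : k + 2 ≤ 2 ^ k := by
      clear hd hle h1 hdvd hkj hk h2 h3
      induction k, hk3 using Nat.le_induction with
      | base => norm_num
      | succ i hi ih => rw [pow_succ]; have := ih (by omega); omega
    omega

end H59.CIT
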