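import Cfsg.Agent.H59.CIT.SimpleFacts
import Cfsg.Agent.H84.EPPO
import Cfsg.Agent.H83.OutsideEPPO
import Cfsg.Agent.S3992

/-!
Finite groups with all element orders prime powers have at most four prime divisors, from the
classification of simple groups with 2-group involution centralisers.
-/

set_option autoImplicit false
set_option linter.style.haveILetI false
set_option linter.unusedSectionVars false

namespace H59.CIT

open Subgroup

universe u

/-- The two kinds of simple groups with four prime divisors. -/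
def FourKind (M : Type u) [Group M] : Prop :=
  (∃ (F : Type) (_ : Field F) (_ : Fintype F), Fintype.card F = 4 ∧
    Nonempty (Matrix.ProjectiveSpecialLinearGroup (Fin 3) F ≃* M)) ∨
  (∃ (F : Type) (_ : Field F) (_ : Fintype F) (m : ℕ), (m = 1 ∨ m = 2) ∧
    Fintype.card F = 2 ^ (2 * m + 1) ∧ Nonempty (Cfsg.Sz F m ≃* M))

theorem ppoList_primeFactors {M : Type u} [Group M] [Finite M] (h : PPOList M) :
    2 ∣ Nat.card M ∧ (Nat.card M).primeFactors.card ≤ 4 ∧
      ((Nat.card M).primeFactors.card ≤ 3 ∨ FourKind M) := by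
  classical
  have hsub : ∀ n : ℕ, ∀ s : Finset ℕ, n.primeFactors = s → Nat.card M = n → 2 ∣ n → s.card ≤ 3 →
      2 ∣ Nat.card M ∧ (Nat.card M).primeFactors.card ≤ 4 ∧
        ((Nat.card M).primeFactors.card ≤ 3 ∨ FourKind M) := by
    intro n s hs hn h2 hc
    rw [hn, hs]
    exact ⟨h2, by omega, Or.inl hc⟩
  rcases h with ⟨⟨e⟩⟩ | ⟨F, _, _, hF, ⟨e⟩⟩ | ⟨F, _, _, hF, ⟨e⟩⟩ | ⟨F, _, _, hF⟩
  · refine hsub 360 {2, 3, 5} (by simp +decide [Nat.primeFactors]) ?_ (by norm_num) (by decide)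
    rw [Nat.card_congr e.toEquiv, nat_card_alternatingGroup, Nat.card_fin]
    rfl
  · have hc := H37.card_PSL_two (F := F)
    rw [← Nat.card_congr e.toEquiv, Nat.card_eq_fintype_card (α := F)] at hc
    simp only [Finset.mem_insert, Finset.mem_singleton] at hF
    rcases hF with hF | hF | hF | hF <;> rw [hF] at hc <;> norm_num at hc
    · exact hsub 60 {2, 3, 5} (by simp +decide [Nat.primeFactors]) (by omega) (by norm_num) (by decide)
    · exact hsub 168 {2, 3, 7} (by simp +decide [Nat.primeFactors]) (by omega) (by norm_num) (by decide)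
    · exact hsub 504 {2, 3, 7} (by simp +decide [Nat.primeFactors]) (by omega) (by norm_num) (by decide)
    · exact hsub 2448 {2, 3, 17} (by simp +decide [Nat.primeFactors]) (by omega) (by norm_num) (by decide)
  · have hc : Nat.card M = 20160 := by rw [Nat.card_congr e.toEquiv, card_psl34 hF]
    refine ⟨hc ▸ (by norm_num), ?_, Or.inr (Or.inl ⟨F, inferInstance, inferInstance, hF, ⟨e.symm⟩⟩)⟩
    rw [hc, show Nat.primeFactors 20160 = {2, 3, 5, 7} by simp +decide [Nat.primeFactors]]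
    decide
  · obtain ⟨m, hm, hF, ⟨e⟩⟩ : ∃ m, (m = 1 ∨ m = 2) ∧ Fintype.card F = 2 ^ (2 * m + 1) ∧
        Nonempty (Cfsg.Sz F m ≃* M) := by
      rcases hF with ⟨hF, ⟨e⟩⟩ | ⟨hF, ⟨e⟩⟩
      · exact ⟨1, Or.inl rfl, hF, ⟨((e.trans (H57.lieSzEquiv (m := 1) le_rfl hF).symm)).symm⟩⟩
      · exact ⟨2, Or.inr rfl, hF, ⟨((e.trans (H57.lieSzEquiv (m := 2) (by norm_num) hF).symm)).symm⟩⟩
    have hk : FourKind M := Or.inr ⟨F, inferInstance, inferInstance, m, hm, hF, ⟨e⟩⟩
    rcases card_sz_cases hm hF with ⟨-, hc⟩ | ⟨-, hc⟩ <;>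
      rw [Nat.card_congr e.toEquiv] at hc <;> rw [hc]
    · refine ⟨by norm_num, ?_, Or.inr hk⟩
      rw [show Nat.primeFactors 29120 = {2, 5, 7, 13} by simp +decide [Nat.primeFactors]]
      decide
    · refine ⟨by norm_num, ?_, Or.inr hk⟩
      rw [show (32537600 : ℕ) = 2 ^ 10 * 5 ^ 2 * 31 * 41 by norm_num,
        Nat.primeFactors_mul (by norm_num) (by norm_num), Nat.primeFactors_mul (by norm_num) (by norm_num),
        Nat.primeFactors_mul (by norm_num) (by norm_num), Nat.primeFactors_pow _ (by norm_num),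
        Nat.primeFactors_pow _ (by norm_num), Nat.prime_two.primeFactors,
        (show Nat.Prime 5 by norm_num).primeFactors, (show Nat.Prime 31 by norm_num).primeFactors,
        (show Nat.Prime 41 by norm_num).primeFactors]
      decide

variable {G : Type u} [Group G] [Finite G]

/-- Above a nontrivial normal `p`-subgroup, noncyclic abelian `s`-subgroups force `s = p`. -/
theorem PPO.eq_of_noncyclicAbelian (h : PPO G) {p s : ℕ} [hp : Fact p.Prime] [hs : Fact s.Prime]
    (R : Subgroup G) [hRn : R.Normal] (hR : IsPGroup p R) (hRne : R ≠ ⊥)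
    (hA : HasNoncyclicAbelian (G ⧸ R) s) : s = p := by
  by_contra hne
  obtain ⟨A, hAs, hAc, hAn⟩ := hA
  obtain ⟨a, ha⟩ := hAs.exists_card_eq
  obtain ⟨i, hi⟩ := hR.exists_card_eq
  set E := A.comap (QuotientGroup.mk' R) with hE
  have hEc : Nat.card E = s ^ a * p ^ i := by
    refine (QuotientGroup.card_preimage_mk R (A : Set (G ⧸ R))).trans ?_
    rw [hi, show Nat.card (A : Set (G ⧸ R)) = s ^ a from ha, mul_comm]
  have hnd : ¬ s ∣ p ^ i := fun hd => hne ((Nat.prime_dvd_prime_iff_eq hs.out hp.out).1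
    (hs.out.dvd_of_dvd_pow hd))
  set S : Sylow s E := default
  have hS : Nat.card S = s ^ a := sylow_card_of_eq hEc hnd S
  set S' : Subgroup G := (S : Subgroup E).map E.subtype
  have hS' : Nat.card S' = s ^ a := by rw [card_map_of_injective E.subtype_injective, hS]
  set f : S' →* G ⧸ R := (QuotientGroup.mk' R).comp S'.subtype with hf
  have hinj : Function.Injective f := by
    rw [injective_iff_map_eq_one]
    rintro ⟨x, hx⟩ hx1
    have hxR : x ∈ R := (QuotientGroup.eq_one_iff x).1 hx1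
    have h1 := (IsPGroup.of_card hi).disjoint_of_ne p s (fun e => hne e.symm) _ _ (IsPGroup.of_card hS')
    exact Subtype.ext (mem_bot.1 (h1.le_bot ⟨hxR, hx⟩))
  have hrange : f.range = A := by
    refine eq_of_le_of_card_ge ?_ (le_of_eq ?_)
    · rintro _ ⟨⟨x, y, -, rfl⟩, rfl⟩
      exact y.2
    · rw [ha, ← Nat.card_congr (MonoidHom.ofInjective hinj).toEquiv, hS']
  have e : S' ≃* A := (MonoidHom.ofInjective hinj).trans (MulEquiv.subgroupCongr hrange)
  have hS'c : IsMulCommutative S' :=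
    ⟨⟨fun x y => e.injective (by rw [map_mul, map_mul, hAc.is_comm.comm])⟩⟩
  haveI : Nontrivial R := (nontrivial_iff_ne_bot R).2 hRne
  have hZ := hR.center_nontrivial
  have hVne : (center R).map R.subtype ≠ ⊥ := by
    rw [Ne, map_eq_bot_iff_of_injective _ R.subtype_injective]
    exact (nontrivial_iff_ne_bot _).1 hZ
  haveI : IsMulCommutative ((center R).map R.subtype) := by
    refine ⟨⟨?_⟩⟩
    rintro ⟨_, x, hx, rfl⟩ ⟨_, y, -, rfl⟩
    exact Subtype.ext (show (x : G) * y = y * x from congrArg Subtype.val (mem_center_iff.1 hx y).symm)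
  have hcy := h.isCyclic_of_coprime S' _ ((hR.to_subgroup _).map R.subtype) hVne
    (le_of_le_of_eq le_top (normalizer_eq_top ((center R).map R.subtype)).symm) hS'c
    (by rw [hS']; exact fun hd => hne ((Nat.prime_dvd_prime_iff_eq hp.out hs.out).1
      (hp.out.dvd_of_dvd_pow hd)).symm)
  exact hAn (isCyclic_of_surjective e e.surjective)

/-- The radical's prime divides the order of the socle of the quotient. -/
theorem PPO.radical_prime_dvd (h : PPO G) {p : ℕ} [hp : Fact p.Prime] (R : Subgroup G) [hRn : R.Normal]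
    (hR : IsPGroup p R) (hRne : R ≠ ⊥)
    (hRmax : ∀ N : Subgroup G, N.Normal → Group.IsSolvable N → N ≤ R)
    (M : Subgroup (G ⧸ R)) (hM : ¬ IsMulCommutative M)
    (hMmin : ∀ N : Subgroup (G ⧸ R), N.Normal → N ≠ ⊥ → M ≤ N) (h2 : 2 ∣ Nat.card M) :
    p ∣ Nat.card M := by
  by_contra hpM
  have hp2 : p ≠ 2 := fun h' => hpM (h' ▸ h2)
  haveI : Fact (Nat.Prime 2) := ⟨Nat.prime_two⟩
  obtain ⟨t, ht⟩ := exists_prime_orderOf_dvd_card' 2 h2
  obtain ⟨g, hg⟩ := QuotientGroup.mk'_surjective R (t : G ⧸ R)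
  have hgt : orderOf (QuotientGroup.mk' R g) = 2 := by rw [hg, orderOf_coe, ht]
  obtain ⟨j, hj1, hj⟩ := h.orderOf_eq_pow Nat.prime_two (hgt ▸ orderOf_map_dvd _ g)
  have hg2 : orderOf g = 2 := by
    have hsq : g ^ 2 ∈ R := (QuotientGroup.eq_one_iff _).1
      (show QuotientGroup.mk' R (g ^ 2) = 1 by rw [map_pow, ← hgt, pow_orderOf_eq_one])
    obtain ⟨i, hi⟩ := IsPGroup.iff_orderOf.1 hR ⟨g ^ 2, hsq⟩
    rw [orderOf_mk] at hi
    have hd : orderOf (g ^ 2) ∣ 2 ^ j := hj ▸ orderOf_pow_dvd 2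
    have hcop : Nat.Coprime (p ^ i) (2 ^ j) :=
      Nat.Coprime.pow _ _ ((Nat.coprime_primes hp.out Nat.prime_two).2 hp2)
    exact orderOf_eq_prime (orderOf_eq_one_iff.1
      (Nat.eq_one_of_dvd_coprimes hcop (hi ▸ dvd_refl _) hd))
      (fun h1 => by rw [h1, map_one, orderOf_one] at hgt; omega)
  set V := (center R).map R.subtype with hV
  have hVp : IsPGroup p V := (hR.to_subgroup _).map R.subtype
  haveI : Nontrivial R := (nontrivial_iff_ne_bot R).2 hRne
  have hVne : V ≠ ⊥ := by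
    rw [hV, Ne, map_eq_bot_iff_of_injective _ R.subtype_injective]
    exact (nontrivial_iff_ne_bot _).1 hR.center_nontrivial
  haveI : Nontrivial V := (nontrivial_iff_ne_bot V).2 hVne
  obtain ⟨n, hn, hVc⟩ := hVp.nontrivial_iff_card.1 inferInstance
  obtain ⟨z, hz⟩ := exists_prime_orderOf_dvd_card' (G := V) p (hVc ▸ dvd_pow_self p hn.ne')
  rw [← orderOf_coe] at hz
  set C := centralizer (V : Set G)
  have hCp : IsPGroup p C := IsPGroup.iff_orderOf.2 fun c => by
    rw [← orderOf_coe]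
    exact h.orderOf_of_commute hp.out hz (mem_centralizer_iff.1 c.2 z z.2).symm
  have hCR : C ≤ R := hRmax C inferInstance (by
    haveI := hCp.isNilpotent
    infer_instance)
  have hcomm : ∀ x : G, x * g * x⁻¹ * g⁻¹ ∈ R := by
    intro x
    refine hCR (mem_centralizer_iff.2 fun v hv => ?_)
    have h1 := h.invert_of_involution hp2 V hVp hg2 v hv
    have hx2 : orderOf (x * g * x⁻¹) = 2 := by
      rw [← hg2, ← orderOf_injective (MulAut.conj x).toMonoidHom (MulEquiv.injective _) g]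
      rfl
    have h2' := h.invert_of_involution hp2 V hVp hx2 v⁻¹ (V.inv_mem hv)
    rw [inv_inv] at h2'
    have h1' : g⁻¹ * v * g = v⁻¹ := by
      have h3 := h.invert_of_involution hp2 V hVp (t := g⁻¹) (by rw [orderOf_inv, hg2]) v hv
      rwa [inv_inv] at h3
    calc v * (x * g * x⁻¹ * g⁻¹)
        = (x * g * x⁻¹ * v⁻¹ * (x * g * x⁻¹)⁻¹) * (x * g * x⁻¹ * g⁻¹) := by rw [h2']
      _ = x * g * x⁻¹ * g⁻¹ * (g * v⁻¹ * g⁻¹) := by group
      _ = x * g * x⁻¹ * g⁻¹ * v := by
        rw [show g * v⁻¹ * g⁻¹ = (g * v * g⁻¹)⁻¹ by group, h1, inv_inv]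
  have htZ : (t : G ⧸ R) ∈ center (G ⧸ R) := by
    refine mem_center_iff.2 fun y => ?_
    obtain ⟨x, rfl⟩ := QuotientGroup.mk'_surjective R y
    have h1 : QuotientGroup.mk' R (x * g * x⁻¹ * g⁻¹) = 1 := (QuotientGroup.eq_one_iff _).2 (hcomm x)
    rw [map_mul, map_mul, map_mul, map_inv, map_inv, hg, mul_inv_eq_one, mul_inv_eq_iff_eq_mul] at h1
    exact h1
  have hMZ : M ≤ center (G ⧸ R) := hMmin _ inferInstance fun hb => by
    rw [hb, mem_bot] at htZ
    rw [← orderOf_coe, htZ, orderOf_one] at ht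
    omega
  exact hM ⟨⟨fun a b => Subtype.ext (mem_center_iff.1 (hMZ b.2) a)⟩⟩

/-- At most four primes; exactly four only for `PSL₃(4)` and the extensions of 2-groups by
`Sz(8)` and `Sz(32)`. -/
theorem ppo_four_primes (hc : H11.CIT.CITClass.{u}) (h : PPO G) :
    (Nat.card G).primeFactors.card ≤ 4 ∧
    ((Nat.card G).primeFactors.card = 4 →
      (∃ (F : Type) (_ : Field F) (_ : Fintype F), Fintype.card F = 4 ∧
        Nonempty (G ≃* Matrix.ProjectiveSpecialLinearGroup (Fin 3) F)) ∨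
      (∃ (N : Subgroup G) (_ : N.Normal), IsPGroup 2 ↥N ∧
        ∃ (F : Type) (_ : Field F) (_ : Fintype F),
          (Fintype.card F = 8 ∧ Nonempty (G ⧸ N ≃* ↥(Cfsg.Lie.Sz F 4))) ∨
          (Fintype.card F = 32 ∧ Nonempty (G ⧸ N ≃* ↥(Cfsg.Lie.Sz F 8))))) := by
  classical
  by_cases hs : Group.IsSolvable G
  · have := H84.eppo_primeFactors_le_two (G := G) fun g => by
      by_cases hg : g = 1
      · exact Or.inr hg
      · exact Or.inl (h g hg)
    exact ⟨by omega, fun h4 => by omega⟩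
  obtain ⟨R, -, ⟨hRn, hRs⟩, hRmax'⟩ :=
    (Set.toFinite {N : Subgroup G | N.Normal ∧ Group.IsSolvable N}).exists_le_maximal
      (a := ⊥) ⟨inferInstance, inferInstance⟩
  haveI := hRn
  have hRmax : ∀ N : Subgroup G, N.Normal → Group.IsSolvable N → N ≤ R := fun N hN hNs => by
    haveI := hN
    exact le_sup_left.trans (hRmax' ⟨Subgroup.sup_normal N R, H83.OutsideEPPO.isSolvable_sup' hNs hRs
      (by rw [normalizer_eq_top]; exact le_top)⟩ le_sup_right)
  obtain ⟨⟨p, hp, hR⟩, ⟨M, hMn, hMs, hMc, hMmin⟩, -⟩ :=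
    Cfsg.Agent.S3992.result hs h R hRs hRmax
  haveI := hMn
  haveI := hMs
  haveI := Fact.mk hp
  have hQ : PPO (G ⧸ R) := h.of_surjective (QuotientGroup.mk'_surjective R)
  obtain ⟨h2, hle, hcases⟩ := ppoList_primeFactors (simple_ppo hc hMc (hQ.subgroup M))
  have hsub : (Nat.card G).primeFactors ⊆ (Nat.card M).primeFactors := by
    intro q hq
    rw [Nat.mem_primeFactors] at hq ⊢
    refine ⟨hq.1, ?_, Nat.card_pos.ne'⟩
    have hqd := hq.2.1
    rw [card_eq_card_quotient_mul_card_subgroup R] at hqd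
    rcases (Nat.Prime.dvd_mul hq.1).1 hqd with hd | hd
    · exact hQ.dvd_card_of_normal M hMc hq.1 hd
    · obtain ⟨i, hi⟩ := hR.exists_card_eq
      obtain rfl := (Nat.prime_dvd_prime_iff_eq hq.1 hp).1 (hq.1.dvd_of_dvd_pow (hi ▸ hd))
      refine h.radical_prime_dvd R hR (fun hb => ?_) hRmax M hMc hMmin h2
      rw [hb, card_bot] at hd
      exact hq.1.not_dvd_one hd
  have hcard := Finset.card_le_card hsub
  refine ⟨hcard.trans hle, fun h4 => ?_⟩
  rcases hcases with h3 | ⟨F, _, _, hF, ⟨e⟩⟩ | ⟨F, _, _, m, hm, hF, ⟨e⟩⟩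
  · omega
  · haveI : Fact (Nat.Prime 2) := ⟨Nat.prime_two⟩
    haveI : Fact (Nat.Prime 3) := ⟨Nat.prime_three⟩
    have hRb : R = ⊥ := by
      by_contra hne
      have hj : Function.Injective (M.subtype.comp e.toMonoidHom) :=
        M.subtype_injective.comp e.injective
      have h2' := h.eq_of_noncyclicAbelian R hR hne ((psl34_klein hF).map hj)
      have h3' := h.eq_of_noncyclicAbelian R hR hne ((psl34_nine hF).map hj)
      omega
    have hMt : M = ⊤ := psl34_outer hF hQ M hMc e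
    refine Or.inl ⟨F, inferInstance, inferInstance, hF, ?_⟩
    exact ⟨((QuotientGroup.quotientMulEquivOfEq hRb).trans QuotientGroup.quotientBot).symm.trans
      ((Subgroup.topEquiv.symm.trans (MulEquiv.subgroupCongr hMt.symm)).trans e.symm)⟩
  · haveI : Fact (Nat.Prime 2) := ⟨Nat.prime_two⟩
    have hR2 : IsPGroup 2 R := by
      by_cases hRb : R = ⊥
      · subst hRb
        exact IsPGroup.of_bot
      · have hj : Function.Injective (M.subtype.comp e.toMonoidHom) :=
          M.subtype_injective.comp e.injective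
        have h2' := h.eq_of_noncyclicAbelian R hR hRb ((sz_klein (by omega) hF).map hj)
        exact h2'.symm ▸ hR
    have hMt : M = ⊤ := sz_outer hm hF hQ M hMc e
    have e' : G ⧸ R ≃* Cfsg.Lie.Sz F (2 ^ (m + 1)) :=
      ((Subgroup.topEquiv.symm.trans (MulEquiv.subgroupCongr hMt.symm)).trans e.symm).trans
        (H57.lieSzEquiv (by omega) hF)
    refine Or.inr ⟨R, hRn, hR2, F, inferInstance, inferInstance, ?_⟩
    rcases hm with rfl | rfl
    · exact Or.inl ⟨hF, ⟨e'⟩⟩
    · exact Or.inr ⟨hF, ⟨e'⟩⟩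

end H59.CIT
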