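import Cfsg.Agent.H59.CIT.Arith
import Cfsg.Agent.H59.CIT.EPPO
import Cfsg.Agent.H59.A5Char
import Cfsg.Agent.H11.CIT.Interface
import Cfsg.Agent.H37.SmallIso
import Cfsg.Agent.H64.SL2Spectrum
import Cfsg.Agent.H57.SzTorusOrder
import Cfsg.Agent.H57.SzForm

/-!
Simple groups in which every element has prime-power order, from the classification of simple
groups with 2-group involution centralisers.
-/

set_option autoImplicit false
set_option linter.style.haveILetI false

namespace H59.CIT

open Subgroup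

universe u

/-- The simple groups with all element orders prime powers. -/
def PPOList (G : Type u) [Group G] : Prop :=
  Nonempty (G ≃* alternatingGroup (Fin 6)) ∨
    (∃ (F : Type) (_ : Field F) (_ : Fintype F), Fintype.card F ∈ ({4, 7, 8, 17} : Finset ℕ) ∧
      Nonempty (G ≃* Matrix.ProjectiveSpecialLinearGroup (Fin 2) F)) ∨
    (∃ (F : Type) (_ : Field F) (_ : Fintype F), Fintype.card F = 4 ∧
      Nonempty (G ≃* Matrix.ProjectiveSpecialLinearGroup (Fin 3) F)) ∨
    (∃ (F : Type) (_ : Field F) (_ : Fintype F),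
      (Fintype.card F = 8 ∧ Nonempty (G ≃* ↥(Cfsg.Lie.Sz F 4))) ∨
        (Fintype.card F = 32 ∧ Nonempty (G ≃* ↥(Cfsg.Lie.Sz F 8))))

theorem PPO.isCIT {G : Type u} [Group G] [Finite G] (h : PPO G) : H11.CIT.IsCIT G := fun t ht => by
  haveI : Fact (Nat.Prime 2) := ⟨Nat.prime_two⟩
  refine IsPGroup.iff_orderOf.2 fun x => ?_
  rw [← orderOf_coe]
  exact h.orderOf_of_commute Nat.prime_two ht (mem_centralizer_singleton_iff.1 x.2)

theorem sz_le_two {F : Type*} [Field F] [Fintype F] {m : ℕ} (hm : 1 ≤ m)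
    (hF : Fintype.card F = 2 ^ (2 * m + 1)) (h : PPO (Cfsg.Sz F m)) : m ≤ 2 := by
  obtain ⟨Ap, Am, hAp, hAm, hcp, hcm, -, -⟩ := H57.tor_summary hm hF
  set q := 2 ^ (2 * m + 1) with hq
  set r := 2 ^ (m + 1) with hr
  have hrq : r ≤ q := H57.r_le_q m
  have hsq : r ^ 2 = 2 * q := H57.r_sq m
  have hprod : (q + r + 1) * (q - r + 1) = q ^ 2 + 1 := by
    obtain ⟨c, hc⟩ := Nat.exists_eq_add_of_le hrq
    rw [hc] at hsq ⊢
    rw [Nat.add_sub_cancel_left]
    linarith [show (r + c + r + 1) * (c + 1) + r ^ 2 = (r + c) ^ 2 + 2 * (r + c) + 1 by ring]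
  have h5 : 5 ∣ q ^ 2 + 1 := by
    have : q ^ 2 % 5 = 4 := by
      rw [hq, ← pow_mul, show (2 * m + 1) * 2 = 4 * m + 2 by ring, pow_add, pow_mul, Nat.mul_mod,
        Nat.pow_mod]
      norm_num
    omega
  have hq2 : 2 * q = 2 ^ (2 * m + 2) := by rw [hq, pow_succ' 2 (2 * m + 1)]
  have hdq : r ∣ q := pow_dvd_pow 2 (by omega)
  have key : ∀ A : Subgroup (Cfsg.Sz F m), H57.IsTor A → 5 ∣ Nat.card A → r ∣ Nat.card A - 1 →
      Nat.card A ≤ 2 * q → m ≤ 2 := by
    intro A hA h5A hrA hle
    obtain ⟨g, hg, rfl⟩ := hA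
    obtain ⟨x, hx⟩ := (H57.torEl_centralizer_cyclic hF hg).exists_ofOrder_eq_natCard
    rw [← hx, ← orderOf_coe] at h5A hrA hle
    obtain ⟨j, hj, he⟩ := h.orderOf_eq_pow (by norm_num : Nat.Prime 5) h5A
    rw [he] at hrA hle
    exact le_two_of_five_pow hm hj hrA (hq2 ▸ hle)
  rw [← hprod] at h5
  rcases (Nat.Prime.dvd_mul (by norm_num : Nat.Prime 5)).1 h5 with h5p | h5m
  · refine key Ap hAp (hcp ▸ h5p) ?_ ?_
    · rw [hcp, Nat.add_sub_cancel]
      exact dvd_add hdq dvd_rfl
    · rw [hcp]
      have : r < q := Nat.pow_lt_pow_right (by norm_num) (by omega)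
      omega
  · refine key Am hAm (hcm ▸ h5m) ?_ ?_
    · rw [hcm, Nat.add_sub_cancel]
      exact Nat.dvd_sub hdq dvd_rfl
    · rw [hcm]
      have : 1 ≤ r := Nat.one_le_two_pow
      omega

theorem psl2_small_not {G : Type u} [Group G] [Finite G] [IsSimpleGroup G] (hG : ¬ IsMulCommutative G)
    {F : Type} [Field F] [Fintype F] (e : G ≃* Matrix.ProjectiveSpecialLinearGroup (Fin 2) F)
    (hF : Fintype.card F = 2 ∨ Fintype.card F = 3) : False := by
  have hc := H37.card_PSL_two (F := F)
  rw [← Nat.card_congr e.toEquiv, Nat.card_eq_fintype_card (α := F)] at hc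
  haveI : Group.IsSolvable G := by
    refine H59.solvable_of_card ?_ ?_ <;>
      rcases hF with hF | hF <;> rw [hF] at hc <;> norm_num at hc
    · omega
    · omega
    · rw [show Nat.card G = 6 by omega]; norm_num
    · rw [show Nat.card G = 12 by omega]; norm_num
  exact hG ⟨⟨fun a b => (IsSimpleGroup.comm_iff_isSolvable.2 inferInstance) a b⟩⟩

/-- Simple groups with all element orders prime powers. -/
theorem simple_ppo (hc : H11.CIT.CITClass.{u}) {G : Type u} [Group G] [Finite G] [IsSimpleGroup G]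
    (hG : ¬ IsMulCommutative G) (h : PPO G) : PPOList G := by
  classical
  rcases hc G hG h.isCIT with ⟨F, _, _, hF, ⟨e⟩⟩ | ⟨F, _, _, hF, he⟩ | ⟨F, _, _, m, hm, hF, ⟨e⟩⟩
  · obtain ⟨p, hpc⟩ := CharP.exists F
    haveI := Fact.mk (CharP.char_is_prime F p)
    set q := Fintype.card F with hq
    have hq2 : 2 ≤ q := Fintype.one_lt_card
    have hspec : ∀ x, x ≠ 1 → x ∣ (q - 1) / Nat.gcd 2 (q - 1) ∨ x ∣ (q + 1) / Nat.gcd 2 (q - 1) →
        IsPrimePow x := by
      intro x hx hd
      have hx' : x ∈ {m | m ∣ p ∨ m ∣ (q - 1) / Nat.gcd 2 (q - 1) ∨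
          m ∣ (q + 1) / Nat.gcd 2 (q - 1)} := Or.inr hd
      rw [← H64.psl2_spectrum p] at hx'
      obtain ⟨g, rfl⟩ := hx'
      exact h.of_equiv e g fun h1 => hx (by rw [h1, orderOf_one])
    rcases hF with hF | ⟨n, hn⟩ | ⟨hp, k, hk⟩
    · obtain ⟨i⟩ := H37.PSL2_nine_mulEquiv_alternating hF
      exact Or.inl ⟨e.trans i⟩
    · have hn1 : n ≠ 1 := by
        rintro rfl
        exact psl2_small_not hG e (Or.inl (by rw [← hq, hn]; norm_num))
      have hn2 : 2 ≤ n := by
        rcases Nat.eq_zero_or_pos n with rfl | h0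
        · norm_num at hn; omega
        · omega
      have h4 : 4 ≤ q := hn ▸ Nat.pow_le_pow_right (show 0 < 2 by norm_num) hn2
      have hd1 : Nat.gcd 2 (q - 1) = 1 := by
        rw [← Nat.coprime_iff_gcd_eq_one, Nat.coprime_two_left]
        have : 2 ∣ q := hn ▸ dvd_pow_self 2 (by omega)
        rw [Nat.odd_iff]
        omega
      rw [hd1, Nat.div_one, Nat.div_one] at hspec
      refine Or.inr (Or.inl ⟨F, inferInstance, inferInstance, ?_, ⟨e⟩⟩)
      rw [← hq]
      rcases Nat.even_or_odd n with he | ho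
      · obtain ⟨j, -, hj⟩ := exists_pow_of_isPrimePow Nat.prime_three
          (hspec (q - 1) (by omega) (Or.inl dvd_rfl)) (hn ▸ three_dvd_two_pow_sub_one he)
        rcases two_pow_sub_one_eq_three_pow (by omega) (hn ▸ hj) with h1 | h1
        · omega
        · rw [hn, h1]; simp
      · obtain ⟨j, -, hj⟩ := exists_pow_of_isPrimePow Nat.prime_three
          (hspec (q + 1) (by omega) (Or.inr dvd_rfl)) (hn ▸ three_dvd_two_pow_add_one ho)
        rcases two_pow_add_one_eq_three_pow (by omega) (hn ▸ hj) with h1 | h1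
        · omega
        · rw [hn, h1]; simp
    · by_cases hq3 : q ≤ 3
      · exact (psl2_small_not hG e (by omega)).elim
      have hodd : Odd q := hp.odd_of_ne_two (by omega)
      have hd2 : Nat.gcd 2 (q - 1) = 2 := Nat.gcd_eq_left (by
        rw [Nat.odd_iff] at hodd; omega)
      rw [hd2] at hspec
      have hk2 : 2 ≤ k := by
        by_contra hlt
        have : 2 ^ k ≤ 2 := by
          have := Nat.pow_le_pow_right (show 0 < 2 by norm_num) (show k ≤ 1 by omega)
          rwa [pow_one] at this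
        omega
      have hhalf : 2 ^ k = 2 * 2 ^ (k - 1) := by rw [← pow_succ', Nat.sub_add_cancel (by omega)]
      have hcases : q = 5 ∨ q = 7 ∨ q = 17 := by
        rcases hk with hk | hk
        · have hke : Even k := by
            by_contra hne
            rcases hp.eq_one_or_self_of_dvd 3
              (hk ▸ three_dvd_two_pow_add_one (Nat.not_even_iff_odd.1 hne)) with h3 | h3 <;> omega
          have hko : Odd (k - 1) := Nat.Even.sub_odd (by omega) hke odd_one
          obtain ⟨j, -, hj⟩ := exists_pow_of_isPrimePow Nat.prime_three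
            (hspec ((q + 1) / 2) (by omega) (Or.inr dvd_rfl))
            (by rw [show (q + 1) / 2 = 2 ^ (k - 1) + 1 by omega]; exact three_dvd_two_pow_add_one hko)
          rw [show (q + 1) / 2 = 2 ^ (k - 1) + 1 by omega] at hj
          rcases two_pow_add_one_eq_three_pow (by omega) hj with h1 | h1
          · left; rw [h1] at hhalf; omega
          · right; right; rw [h1] at hhalf; omega
        · have hko : Odd k := by
            by_contra hne
            rcases hp.eq_one_or_self_of_dvd 3
              (show 3 ∣ q by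
                rw [show q = 2 ^ k - 1 by omega]
                exact three_dvd_two_pow_sub_one (Nat.not_odd_iff_even.1 hne)) with h3 | h3 <;> omega
          have hke : Even (k - 1) := Nat.Odd.sub_odd hko odd_one
          obtain ⟨j, -, hj⟩ := exists_pow_of_isPrimePow Nat.prime_three
            (hspec ((q - 1) / 2) (by omega) (Or.inl dvd_rfl))
            (by rw [show (q - 1) / 2 = 2 ^ (k - 1) - 1 by omega]; exact three_dvd_two_pow_sub_one hke)
          rw [show (q - 1) / 2 = 2 ^ (k - 1) - 1 by omega] at hj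
          rcases two_pow_sub_one_eq_three_pow (by omega) hj with h1 | h1
          · rw [h1] at hhalf; omega
          · right; left; rw [h1] at hhalf; omega
      rcases hcases with h5 | h7 | h17
      · obtain ⟨i⟩ := H37.PSL2_five_mulEquiv_alternating (F := F) h5
        let K : Type := GaloisField 2 2
        letI : Fintype K := Fintype.ofFinite K
        have hK : Nat.card K = 4 := (GaloisField.card 2 2 (by norm_num)).trans (by norm_num)
        obtain ⟨i'⟩ := H37.PSL2_four_mulEquiv_alternating (F := K) hK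
        exact Or.inr (Or.inl ⟨K, inferInstance, inferInstance,
          by rw [← Nat.card_eq_fintype_card, hK]; simp, ⟨(e.trans i).trans i'.symm⟩⟩)
      · exact Or.inr (Or.inl ⟨F, inferInstance, inferInstance, by rw [← hq, h7]; simp, ⟨e⟩⟩)
      · exact Or.inr (Or.inl ⟨F, inferInstance, inferInstance, by rw [← hq, h17]; simp, ⟨e⟩⟩)
  · exact Or.inr (Or.inr (Or.inl ⟨F, inferInstance, inferInstance, hF, he⟩))
  · have hm2 := sz_le_two hm hF ((h.of_equiv e).of_equiv (H57.lieSzEquiv hm hF).symm)
    refine Or.inr (Or.inr (Or.inr ⟨F, inferInstance, inferInstance, ?_⟩))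
    interval_cases m
    · exact Or.inl ⟨hF, ⟨e⟩⟩
    · exact Or.inr ⟨hF, ⟨e⟩⟩

end H59.CIT
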